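import Groth.Prelude.Def_EtAcyc
import Groth.Agent.L27.EtSite.Pull
import Mathlib.CategoryTheory.Adjunction.FullyFaithful
import Mathlib.CategoryTheory.Sites.LocallyInjective
import Mathlib.AlgebraicGeometry.PullbackCarrier
import Mathlib.RingTheory.Spectrum.Prime.RingHom
import Mathlib.AlgebraicGeometry.Morphisms.UniversallyOpen

/-!
(-1)-acyclic morphisms and surjectivity.
-/

set_option autoImplicit false
universe u

open CategoryTheory CategoryTheory.Limits AlgebraicGeometry Opposite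

set_option backward.isDefEq.respectTransparency.types false

namespace Groth.L28.MinusOne

variable {X Y : Scheme.{u}}

/-- morphisms of sheaves of sets are determined by stalks at geometric points over every point -/
theorem eq_of_stalks {P Q : EtDesc.Sh X} (a b : P ⟶ Q)
    (h : ∀ x : X, ∃ (Ω : Type u) (_ : Field Ω) (_ : IsSepClosed Ω) (ξ : Spec (CommRingCat.of Ω) ⟶ X),
      ξ default = x ∧ (Scheme.pointSmallEtale ξ).sheafFiber.map a = (Scheme.pointSmallEtale ξ).sheafFiber.map b) :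
    a = b := by
  ext ⟨U⟩ s
  have hQ := (isSheaf_iff_isSheaf_of_type _ _).1 Q.property
  refine (hQ (Presheaf.equalizerSieve (F := Q.obj) (X := op U) (a.hom.app (op U) s : ToType (Q.obj.obj (op U)))
    (b.hom.app (op U) s : ToType (Q.obj.obj (op U))))
    ((Groth.L27.EtSite.mem_topology_iff _).2 fun x => ?_)).isSeparatedFor.ext fun V g hg => hg
  obtain ⟨Ω, _, _, ξ, hξ, hab⟩ := h (U.hom x)
  obtain ⟨y, hy⟩ := Groth.L27.EtSite.exists_fiber ξ U x hξ.symm
  let Φ := Scheme.pointSmallEtale ξ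
  have e : Φ.toPresheafFiber U y Q.obj (a.hom.app (op U) s) = Φ.toPresheafFiber U y Q.obj (b.hom.app (op U) s) := by
    have ea := Φ.toPresheafFiber_naturality_apply a.hom U y s
    have eb := Φ.toPresheafFiber_naturality_apply b.hom U y s
    refine ea.symm.trans (Eq.trans ?_ eb)
    exact ConcreteCategory.congr_hom hab (Φ.toPresheafFiber U y P.obj s)
  obtain ⟨W, c, w, hw, hc⟩ := (Φ.toPresheafFiber_eq_iff' _ _ _ _).1 e
  refine ⟨W, c, w.left (default : Spec (CommRingCat.of Ω)), hc, ?_⟩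
  rw [← hy, ← hw]
  rfl

theorem faithful_pullSh (f : X ⟶ Y) (hf : Function.Surjective f) : (EtDesc.pullSh f).Faithful where
  map_injective {P Q} a b hab := eq_of_stalks a b fun y => by
    obtain ⟨x, rfl⟩ := hf y
    obtain ⟨Ω, _, _, ξ, hξ⟩ := Groth.L27.EtSite.exists_geometric_point x
    refine ⟨Ω, inferInstance, inferInstance, ξ ≫ f, by rw [Scheme.Hom.comp_apply, hξ], ?_⟩
    let e := Groth.L27.EtSite.stalkPullShIso f ξ
    rw [← cancel_epi (e.hom.app P), ← e.hom.naturality a, ← e.hom.naturality b]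
    exact congrArg (fun k => (Scheme.pointSmallEtale ξ).sheafFiber.map k ≫ e.hom.app Q) hab

theorem isMinusOneAcyclic_of_surjective (g : X ⟶ Y) (hg : Function.Surjective g) :
    EtAcyc.IsMinusOneAcyclic g := by
  intro V F
  haveI : (EtDesc.pullSh (EtAcyc.prj g V)).Faithful := faithful_pullSh _ fun v => by
    obtain ⟨x, hx⟩ := hg (V.hom v)
    obtain ⟨z, hz, -⟩ := Scheme.Pullback.exists_preimage_pullback (f := V.hom) (g := g) v x hx.symm
    exact ⟨z, hz⟩
  infer_instance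

section Subsets

variable (Z : Set X)

/-- subsets of the preimage of `Z` -/
def subsets : X.Etaleᵒᵖ ⥤ Type (u + 1) where
  obj U := ULift.{u + 1} {O : Set U.unop.left // ∀ x ∈ O, U.unop.hom x ∈ Z}
  map {U V} g := TypeCat.ofHom fun O => ⟨⟨g.unop.left ⁻¹' O.down.1, fun x hx => by
    have := O.down.2 _ hx
    rwa [← Scheme.Hom.comp_apply, Over.w g.unop.hom] at this⟩⟩
  map_id U := by ext O; rfl
  map_comp f g := by ext O; rfl

theorem isSheaf_subsets : Presheaf.IsSheaf X.smallEtaleTopology (subsets Z) := by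
  rw [isSheaf_iff_isSheaf_of_type]
  intro U R hR x hx
  have hcov := (Groth.L27.EtSite.mem_topology_iff R).1 hR
  refine ⟨⟨⟨{p | ∃ (V : X.Etale) (g : V ⟶ U) (hg : R g) (v : V.left), v ∈ (x g hg).down.1 ∧ g.left v = p},
    ?_⟩⟩, fun V g hg => ?_, ?_⟩
  · rintro p ⟨V, g, hg, v, hv, rfl⟩
    have := (x g hg).down.2 v hv
    rwa [← Scheme.Hom.comp_apply, Over.w g.hom]
  · refine ULift.ext _ _ (Subtype.ext (Set.ext fun v => ⟨?_, fun hv => ⟨V, g, hg, v, hv, rfl⟩⟩))
    rintro ⟨V', g', hg', v', hv', hp⟩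
    obtain ⟨z, hz1, hz2⟩ := Scheme.Pullback.exists_preimage_pullback (f := g.left) (g := g'.left) v v' hp.symm
    let W : X.Etale := Scheme.Etale.mk (pullback.fst g.left g'.left ≫ V.hom)
    let p₁ : W ⟶ V := MorphismProperty.Over.homMk (pullback.fst g.left g'.left) rfl trivial
    let p₂ : W ⟶ V' := MorphismProperty.Over.homMk (pullback.snd g.left g'.left) (by
      exact (congrArg (pullback.snd g.left g'.left ≫ ·) (Over.w g'.hom).symm).trans
        ((pullback.condition_assoc _).symm.trans (congrArg (pullback.fst g.left g'.left ≫ ·) (Over.w g.hom)))) trivial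
    have h := congrArg (fun O : (subsets Z).obj (op W) => O.down.1)
      (hx p₁ p₂ hg hg' (MorphismProperty.Over.Hom.ext pullback.condition))
    have hz : z ∈ p₁.left ⁻¹' (x g hg).down.1 ↔ z ∈ p₂.left ⁻¹' (x g' hg').down.1 := Set.ext_iff.1 h z
    exact hz1 ▸ hz.2 (show pullback.snd g.left g'.left z ∈ _ from hz2.symm ▸ hv')
  · intro t ht
    refine ULift.ext _ _ (Subtype.ext (Set.ext fun p => ?_))
    obtain ⟨V, g, v, hg, rfl⟩ := hcov p
    refine ⟨fun hp => ⟨V, g, hg, v, ?_, rfl⟩, ?_⟩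
    · rw [← ht g hg]; exact hp
    · rintro ⟨V', g', hg', v', hv', hp⟩
      rw [← ht g' hg'] at hv'
      exact hp ▸ hv'

/-- the sheaf of subsets of the preimage of `Z` -/
def subsetsSh : EtDesc.Sh X := ⟨subsets Z, isSheaf_subsets Z⟩

/-- the constant map with value the full preimage -/
def fullMap : subsetsSh Z ⟶ subsetsSh Z where
  hom :=
    { app := fun U => TypeCat.ofHom fun _ => ⟨⟨{x | U.unop.hom x ∈ Z}, fun _ h => h⟩⟩
      naturality := fun U V g => by
        ext O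
        refine ULift.ext _ _ (Subtype.ext (Set.ext fun x => ?_))
        show V.unop.hom x ∈ Z ↔ U.unop.hom (g.unop.left x) ∈ Z
        rw [← Scheme.Hom.comp_apply, Over.w g.unop.hom] }

theorem stalk_fullMap_eq {Ω : Type u} [Field Ω] [IsSepClosed Ω] (ξ : Spec (CommRingCat.of Ω) ⟶ X)
    (W : X.Opens) (hξW : ξ default ∈ W) (hWZ : ∀ x ∈ W, x ∉ Z) :
    (Scheme.pointSmallEtale ξ).sheafFiber.map (fullMap Z) =
      (Scheme.pointSmallEtale ξ).sheafFiber.map (𝟙 (subsetsSh Z)) := by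
  let Φ := Scheme.pointSmallEtale ξ
  ext t
  obtain ⟨U, y, s, rfl⟩ := Φ.toPresheafFiber_jointly_surjective (P := subsets Z) t
  refine (Φ.toPresheafFiber_naturality_apply (fullMap Z).hom U y s).trans
    (Eq.trans ?_ (Φ.toPresheafFiber_naturality_apply (𝟙 (subsetsSh Z) : _ ⟶ _).hom U y s).symm)
  let O : U.left.Opens := U.hom ⁻¹ᵁ W
  let U' : X.Etale := Scheme.Etale.mk (O.ι ≫ U.hom)
  let c : U' ⟶ U := MorphismProperty.Over.homMk O.ι rfl trivial
  have hy : y.left (default : Spec (CommRingCat.of Ω)) ∈ O := by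
    show U.hom _ ∈ W
    rw [Groth.L27.EtSite.fiber_apply y]; exact hξW
  let yl : Spec (CommRingCat.of Ω) ⟶ U.left := y.left
  have hr : Set.range yl ⊆ Set.range O.ι := by
    rintro _ ⟨a, rfl⟩
    obtain rfl : a = (default : Spec (CommRingCat.of Ω)) := Subsingleton.elim _ _
    exact ⟨⟨_, hy⟩, rfl⟩
  have hOι : IsOpenImmersion O.ι := Scheme.Opens.instIsOpenImmersionι O
  let y' : Φ.fiber.obj U' := Over.homMk (@IsOpenImmersion.lift _ _ _ O.ι yl hOι hr)
    ((@IsOpenImmersion.lift_fac_assoc _ _ _ O.ι yl hOι hr _ U.hom).trans (Over.w y))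
  refine (Φ.toPresheafFiber_eq_iff' _ _ _ _).2 ⟨U', c, y', Over.OverMorphism.ext (@IsOpenImmersion.lift_fac _ _ _ O.ι yl hOι hr), ?_⟩
  refine ULift.ext _ _ (Subtype.ext (Set.ext fun x => iff_of_false ?_ ?_))
  · exact fun h => hWZ _ x.2 h
  · exact fun h => hWZ _ x.2 (s.down.2 _ h)

end Subsets

/-- separating a point from the image of a quasi-compact morphism -/
theorem exists_separating (g : X ⟶ Y) [QuasiCompact g] (y : Y) (hy : y ∉ Set.range g) :
    ∃ (V : Y.Opens) (W : Y.Opens), y ∈ V ∧ y ∉ W ∧ ∀ x : X, g x ∈ V → g x ∈ W := by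
  classical
  obtain ⟨U, hU, hyU, -⟩ := exists_isAffineOpen_mem_and_subset (X := Y) (x := y) (U := ⊤) trivial
  choose P hP hxP hPU using fun (x : ↥(g ⁻¹ᵁ U)) =>
    exists_isAffineOpen_mem_and_subset (X := X) (x := x.1) (U := g ⁻¹ᵁ U) x.2
  obtain ⟨t, ht⟩ := (g.isCompact_preimage hU.isCompact).elim_finite_subcover (fun x => (P x : Set X))
    (fun x => (P x).isOpen) (fun x hx => Set.mem_iUnion.2 ⟨⟨x, hx⟩, hxP _⟩)
  set p := (hU.primeIdealOf ⟨y, hyU⟩) with hp
  have hmem : ∀ a : Γ(Y, U), y ∈ Y.basicOpen a ↔ a ∉ p.asIdeal := fun a => by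
    rw [show y = hU.fromSpec p from (hU.fromSpec_primeIdealOf ⟨y, hyU⟩).symm,
      ← Scheme.Hom.mem_preimage, hU.fromSpec_preimage_basicOpen]
    rfl
  have key : ∀ x : ↥(g ⁻¹ᵁ U), ∃ (f : Γ(Y, U)) (J : Finset Γ(Y, U)), f ∉ p.asIdeal ∧ (↑J ⊆ (p.asIdeal : Set Γ(Y, U))) ∧
      (g.appLE U (P x) (hPU x)) f ∈ Ideal.span ((g.appLE U (P x) (hPU x)) '' ↑J) := by
    intro x
    set φ := (g.appLE U (P x) (hPU x)).hom
    have hnr : p ∉ Set.range (PrimeSpectrum.comap φ) := by
      rintro ⟨q, hq⟩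
      refine hy ⟨(hP x).fromSpec q, ?_⟩
      rw [← Scheme.Hom.comp_apply, ← hU.SpecMap_appLE_fromSpec g (hP x) (hPU x), Scheme.Hom.comp_apply]
      show hU.fromSpec (PrimeSpectrum.comap φ q) = y
      rw [hq]; exact hU.fromSpec_primeIdealOf ⟨y, hyU⟩
    rw [PrimeSpectrum.mem_range_comap_iff] at hnr
    obtain ⟨f, hf, hfp⟩ := SetLike.exists_of_lt (lt_of_le_of_ne Ideal.le_comap_map (Ne.symm hnr))
    obtain ⟨J', hJ', hfJ⟩ := Submodule.mem_span_finite_of_mem_span (Ideal.mem_comap.1 hf)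
    obtain ⟨J, hJ, rfl⟩ := Finset.subset_set_image_iff.1 hJ'
    refine ⟨f, J, hfp, hJ, ?_⟩
    rw [← Finset.coe_image]
    exact hfJ
  choose f J hf hJ hfJ using key
  refine ⟨Y.basicOpen (∏ x ∈ t, f x), ⨆ a ∈ t.biUnion J, Y.basicOpen a, ?_, ?_, fun x hx => ?_⟩
  · rw [hmem]
    intro h
    obtain ⟨x, -, hx⟩ := p.2.prod_mem_iff.1 h
    exact hf x hx
  · intro h
    simp only [TopologicalSpace.Opens.mem_iSup] at h
    obtain ⟨a, ha, hya⟩ := h
    obtain ⟨x, -, hax⟩ := Finset.mem_biUnion.1 ha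
    exact (hmem a).1 hya (hJ x hax)
  · have hxU : g x ∈ U := Y.basicOpen_le _ hx
    obtain ⟨z, hz, hxz⟩ := Set.mem_iUnion₂.1 (ht (show x ∈ g ⁻¹ᵁ U from hxU))
    have hxf : g x ∈ Y.basicOpen (f z) := by
      rw [Scheme.mem_basicOpen Y _ _ hxU] at hx ⊢
      rw [map_prod] at hx
      exact isUnit_of_dvd_unit (Finset.dvd_prod_of_mem (fun i => Y.presheaf.germ U (g x) hxU (f i)) hz) hx
    by_contra hW
    have hsmall : ∀ a ∈ J z, x ∉ X.basicOpen (g.appLE U (P z) (hPU z) a) := fun a ha h => by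
      rw [Scheme.basicOpen_appLE] at h
      exact hW (TopologicalSpace.Opens.mem_iSup.2 ⟨a, TopologicalSpace.Opens.mem_iSup.2
        ⟨Finset.mem_biUnion.2 ⟨z, hz, ha⟩, h.2⟩⟩)
    have hbig : x ∈ X.basicOpen (g.appLE U (P z) (hPU z) (f z)) := by
      rw [Scheme.basicOpen_appLE]; exact ⟨hxz, hxf⟩
    rw [Scheme.mem_basicOpen X _ _ hxz] at hbig
    have hle : Ideal.span ((g.appLE U (P z) (hPU z)) '' ↑(J z)) ≤
        (IsLocalRing.maximalIdeal (X.presheaf.stalk x)).comap (X.presheaf.germ (P z) x hxz).hom := by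
      rw [Ideal.span_le]
      rintro _ ⟨a, ha, rfl⟩
      exact fun hu => hsmall a ha ((Scheme.mem_basicOpen X _ _ hxz).2 hu) 
    exact (hle (hfJ z)) hbig

theorem surjective_of_isMinusOneAcyclic (g : X ⟶ Y) [QuasiCompact g]
    (h : EtAcyc.IsMinusOneAcyclic g) : Function.Surjective g := by
  intro y
  by_contra hy
  obtain ⟨V₀, W, hyV, hyW, hgW⟩ := exists_separating g y hy
  let V : Y.Etale := Scheme.Etale.mk V₀.ι
  let Z : Set V.left := {v | V₀.ι v ∉ W}
  haveI : ∀ F, Mono ((EtDesc.adjSh (EtAcyc.prj g V)).unit.app F) := fun F => h V F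
  haveI := (EtDesc.adjSh (EtAcyc.prj g V)).faithful_L_of_mono_unit_app
  have hab : fullMap Z = 𝟙 (subsetsSh Z) := by
    refine (EtDesc.pullSh (EtAcyc.prj g V)).map_injective (eq_of_stalks _ _ fun x => ?_)
    obtain ⟨Ω, _, _, ξ, hξ⟩ := Groth.L27.EtSite.exists_geometric_point x
    refine ⟨Ω, inferInstance, inferInstance, ξ, hξ, ?_⟩
    let e := Groth.L27.EtSite.stalkPullShIso (EtAcyc.prj g V) ξ
    have he := stalk_fullMap_eq Z (ξ ≫ EtAcyc.prj g V) (V₀.ι ⁻¹ᵁ W) (by
      rw [Scheme.Hom.comp_apply, hξ]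
      show V₀.ι (pullback.fst V.hom g x) ∈ W
      have hc : V₀.ι (pullback.fst V.hom g x) = g (pullback.snd V.hom g x) :=
        ((Scheme.Hom.comp_apply _ _ _).symm.trans
          (congrArg (fun k : pullback V.hom g ⟶ Y => k x) pullback.condition)).trans (Scheme.Hom.comp_apply _ _ _)
      rw [hc]
      exact hgW _ (hc ▸ (pullback.fst V.hom g x).2)) (fun v hv hZ => hZ hv)
    rw [← cancel_mono (e.hom.app (subsetsSh Z))]
    exact (e.hom.naturality (fullMap Z)).trans ((congrArg (e.hom.app _ ≫ ·) he).trans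
      (e.hom.naturality (𝟙 (subsetsSh Z))).symm)
  let U : V.left.Etale := Scheme.Etale.mk (𝟙 V.left)
  let s : (subsets Z).obj (op U) := ⟨⟨∅, fun x hx => hx.elim⟩⟩
  have h1 := congrArg (fun k : subsetsSh Z ⟶ subsetsSh Z => (k.hom.app (op U) s).down.1) hab
  exact (((Set.ext_iff.1 h1) (⟨y, hyV⟩ : V₀)).1 hyW).elim

end Groth.L28.MinusOne
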